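import Mathlib.RingTheory.Ideal.Norm.RelNorm
import Mathlib.RingTheory.DedekindDomain.AdicValuation
import Mathlib.LinearAlgebra.Matrix.Determinant.Basic
import Mathlib.FieldTheory.IsAlgClosed.Basic
import Mathlib.RingTheory.Norm.Defs
import Mathlib.RingTheory.PrincipalIdealDomain
import Mathlib.Algebra.Polynomial.FieldDivision
import Mathlib.FieldTheory.Perfect
import Mathlib.Tactic

/-!
# Job 427 (S15911, node NORM): even valuations give a square norm
-/

set_option autoImplicit false
set_option linter.all false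

namespace Groth.Agent.Surf.K573.NormSq

open Polynomial IsDedekindDomain

/-- An ideal all of whose multiplicities are even is a square. -/
theorem exists_sq_ideal {S F : Type*} [CommRing S] [IsDomain S] [IsDedekindDomain S]
    [Field F] [Algebra S F] [IsFractionRing S F] (g : S) (hg : g ≠ 0)
    (hJ : ∀ P : HeightOneSpectrum S, ∃ c : F,
      P.valuation F (algebraMap S F g) = P.valuation F c ^ 2) :
    ∃ J : Ideal S, Ideal.span {g} = J ^ 2 := by
  classical
  have hI : Ideal.span {g} ≠ 0 := by simpa using hg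
  set s := UniqueFactorizationMonoid.normalizedFactors (Ideal.span {g}) with hs
  have hprod : s.prod = Ideal.span {g} := by
    have := UniqueFactorizationMonoid.prod_normalizedFactors (a := Ideal.span {g}) hI
    exact associated_iff_eq.mp this
  have heven : ∀ P ∈ s.toFinset, Even (s.count P) := by
    intro P hP
    have hP' : P ∈ s := by simpa using hP
    have hprime : Prime P := UniqueFactorizationMonoid.prime_of_normalized_factor P hP'
    let v : HeightOneSpectrum S := ⟨P, Ideal.isPrime_of_prime hprime, hprime.ne_zero⟩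
    obtain ⟨c, hc⟩ := hJ v
    rw [HeightOneSpectrum.valuation_of_algebraMap,
      HeightOneSpectrum.intValuation_eq_exp_neg_multiplicity _ hg] at hc
    have hc0 : c ≠ 0 := by
      rintro rfl
      rw [map_zero, zero_pow two_ne_zero] at hc
      exact WithZero.exp_ne_zero hc
    have hcv : v.valuation F c ≠ 0 := (Valuation.ne_zero_iff _).mpr hc0
    obtain ⟨m, hm⟩ : ∃ m : ℤ, v.valuation F c = WithZero.exp m :=
      ⟨WithZero.log (v.valuation F c), (WithZero.exp_log hcv).symm⟩
    rw [hm, ← WithZero.exp_nsmul, WithZero.exp_inj] at hc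
    have hcount : multiplicity v.asIdeal (Ideal.span {g}) = s.count P := by
      have h1 := UniqueFactorizationMonoid.emultiplicity_eq_count_normalizedFactors
        hprime.irreducible hI
      rw [normalize_eq, ← hs] at h1
      exact multiplicity_eq_of_emultiplicity_eq_some h1
    rw [hcount] at hc
    have h2 : ((s.count P : ℤ)) = 2 * (-m) := by
      simp only [nsmul_eq_mul] at hc
      push_cast at hc
      linarith
    have : Even ((s.count P : ℤ)) := ⟨-m, by rw [h2]; ring⟩
    exact_mod_cast this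
  refine ⟨∏ P ∈ s.toFinset, P ^ (s.count P / 2), ?_⟩
  rw [← Finset.prod_pow, ← hprod, Finset.prod_multiset_count]
  refine Finset.prod_congr rfl fun P hP => ?_
  rw [← pow_mul, Nat.div_mul_cancel (heven P hP).two_dvd]

/-- The determinant of multiplication by `b + a ζ` in the basis `1, ζ, ζ²`. -/
theorem norm_eq {R S : Type*} [CommRing R] [CommRing S] [Algebra R S]
    (B : Module.Basis (Fin 3) R S) (ζ : S) (hB : ∀ i, B i = ζ ^ (i : ℕ))
    (b₂ b₄ b₆ : R) (hζ : ζ ^ 3 + b₂ • ζ ^ 2 + b₄ • ζ + algebraMap R S b₆ = 0) (a b : R) :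
    Algebra.norm R (algebraMap R S b + a • ζ) =
      b ^ 3 - b₂ * b ^ 2 * a + b₄ * b * a ^ 2 - b₆ * a ^ 3 := by
  have hM : Algebra.leftMulMatrix B (algebraMap R S b + a • ζ) =
      !![b, 0, -(a * b₆); a, b, -(a * b₄); 0, a, b - a * b₂] := by
    have h3 : ζ ^ 3 = -(b₂ • ζ ^ 2 + b₄ • ζ + algebraMap R S b₆) := by
      linear_combination hζ
    have key : ∀ j : Fin 3, (algebraMap R S b + a • ζ) * B j =
        ∑ i, (!![b, 0, -(a * b₆); a, b, -(a * b₄); 0, a, b - a * b₂] : Matrix _ _ R) i j • B i := by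
      intro j
      simp only [hB, Fin.sum_univ_three, Algebra.smul_def, map_neg, map_mul, map_sub, map_zero]
      fin_cases j
      · simp [Algebra.smul_def]
      · simp [Algebra.smul_def]; ring
      · simp only [Algebra.smul_def] at h3
        simp [Algebra.smul_def]
        linear_combination (algebraMap R S a) * h3
    ext i j
    rw [Algebra.leftMulMatrix_eq_repr_mul, key j, map_sum, Finsupp.finsetSum_apply]
    simp [Finsupp.single_apply]
  rw [Algebra.norm_eq_matrix_det B, hM, Matrix.det_fin_three]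
  simp
  ring

theorem exists_sq_eq_norm {k S F : Type*} [Field k] [IsAlgClosed k] [CharZero k] [CommRing S] [IsDomain S]
    [IsDedekindDomain S] [Algebra k[X] S] (B : Module.Basis (Fin 3) k[X] S) (ζ : S) (hB : ∀ i, B i = ζ ^ (i : ℕ))
    [Field F] [Algebra S F] [IsFractionRing S F]
    (b₂ b₄ b₆ : k[X]) (hζ : ζ ^ 3 + b₂ • ζ ^ 2 + b₄ • ζ + algebraMap k[X] S b₆ = 0)
    (a b : k[X]) (hne : algebraMap k[X] S b + a • ζ ≠ 0)
    (hJ : ∀ P : HeightOneSpectrum S, ∃ c : F,
      P.valuation F (algebraMap S F (algebraMap k[X] S b + a • ζ)) = P.valuation F c ^ 2) :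
    ∃ N : k[X], N ^ 2 = b ^ 3 - b₂ * b ^ 2 * a + b₄ * b * a ^ 2 - b₆ * a ^ 3 := by
  obtain ⟨J, hJ2⟩ := exists_sq_ideal _ hne hJ
  have : Module.Finite k[X] S := Module.Finite.of_basis B
  have : Module.Free k[X] S := Module.Free.of_basis B
  have : Module.IsTorsionFree k[X] S := inferInstance
  have h1 := congrArg (Ideal.relNorm k[X]) hJ2
  rw [Ideal.relNorm_singleton, map_pow, Algebra.intNorm_eq_norm, norm_eq B ζ hB b₂ b₄ b₆ hζ a b,
    ← Ideal.span_singleton_generator (Ideal.relNorm k[X] J), Ideal.span_singleton_pow,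
    Ideal.span_singleton_eq_span_singleton] at h1
  obtain ⟨u, hu⟩ := h1.symm
  obtain ⟨c, hc0, hc⟩ := Polynomial.isUnit_iff.mp u.isUnit
  obtain ⟨d, hd⟩ := IsAlgClosed.exists_pow_nat_eq c (n := 2) two_pos
  refine ⟨Submodule.IsPrincipal.generator (Ideal.relNorm k[X] J) * C d, ?_⟩
  rw [← hu, mul_pow, ← hc, ← hd, C_pow]

end Groth.Agent.Surf.K573.NormSq
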