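import Mathlib.AlgebraicGeometry.Morphisms.SchemeTheoreticallyDominant
import Mathlib.RingTheory.Algebraic.Integral
import Groth.Prelude.Def_ClSub2
import Groth.Agent.FlatA.AppIso
import Groth.Agent.Desc.QAffDesc
import Groth.Agent.Ega3B.NormalBirational

/-!
# `p_* O_M = O_B` from the generic fibre and normality of the base

* `surjective_of_isPushout`: an integral injective extension `A → A'` of domains with `A` normal which becomes an
  isomorphism `K → K ⊗ A'` over a field `K` containing `A` is surjective.
* `isIso_unitToPush`: for a proper morphism `p : M → B` of integral schemes mapping the generic point to the generic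
  point, `B` normal, whose base change to one field-valued point over the generic point of `B` has no global functions
  except the constants, `O_B → p_* O_M` is an isomorphism.
-/

set_option autoImplicit false
universe u

open CategoryTheory CategoryTheory.Limits AlgebraicGeometry TopologicalSpace Opposite

namespace Groth.Agent.Surf.K573.PushUnit

section Alg

theorem surjective_of_isPushout {A A' K C : Type u} [CommRing A] [IsDomain A] [IsIntegrallyClosed A] [CommRing A']
    [IsDomain A'] [Field K] [CommRing C] [Algebra A A'] [Algebra A K] [Algebra A C] [Algebra A' C] [Algebra K C]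
    [IsScalarTower A A' C] [IsScalarTower A K C] [Algebra.IsPushout A K A' C] (h1 : Function.Injective (algebraMap A A'))
    (h2 : Function.Injective (algebraMap A K)) [Algebra.IsIntegral A A']
    (h3 : Function.Bijective (algebraMap K C)) : Function.Surjective (algebraMap A A') := by
  have hf1 : FaithfulSMul A A' := (faithfulSMul_iff_algebraMap_injective A A').2 h1
  have hf2 : FaithfulSMul A K := (faithfulSMul_iff_algebraMap_injective A K).2 h2
  have hrk : Module.rank A A' = 1 := by
    rw [← ((Algebra.isPushout_iff A K A' C).mp inferInstance).rank_eq]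
    rw [← (AlgEquiv.ofBijective (Algebra.ofId K C) h3).toLinearEquiv.rank_eq, Module.rank_self]
  intro s
  have hdep : ¬ LinearIndependent A ![(1 : A'), s] := by
    intro h
    have h4 := h.cardinal_lift_le_rank
    rw [hrk] at h4
    simp at h4
  rw [LinearIndependent.pair_iff] at hdep
  push Not at hdep
  obtain ⟨a, b, hab, hne⟩ := hdep
  have hb : b ≠ 0 := by
    intro hb
    rw [hb, zero_smul, add_zero, Algebra.smul_def, mul_one] at hab
    exact hne (h1 (by rw [hab, map_zero])) hb
  let F := FractionRing A'
  let L := FractionRing A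
  let iF : L →+* F := IsLocalization.map F (algebraMap A A')
    (T := nonZeroDivisors A') (by
      intro x hx
      rw [Submonoid.mem_comap, mem_nonZeroDivisors_iff_ne_zero]
      exact fun h => nonZeroDivisors.ne_zero hx (h1 (by rw [h, map_zero])))
  have hiF : ∀ x : A, iF (algebraMap A L x) = algebraMap A' F (algebraMap A A' x) := fun x => IsLocalization.map_eq _ x
  have hinj : Function.Injective iF := iF.injective
  let t : L := - (algebraMap A L a / algebraMap A L b)
  have hbL : algebraMap A L b ≠ 0 := by
    intro h; exact hb (IsFractionRing.injective A L (by rw [h, map_zero]))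
  have hbF : iF (algebraMap A L b) ≠ 0 := by
    intro h; exact hbL (hinj (by rw [h, map_zero]))
  have ht : iF t = algebraMap A' F s := by
    have h5 : algebraMap A' F (algebraMap A A' a) + algebraMap A' F (algebraMap A A' b) * algebraMap A' F s = 0 := by
      rw [← map_mul, ← map_add]
      have : algebraMap A A' a + algebraMap A A' b * s = 0 := by
        rw [Algebra.smul_def, Algebra.smul_def, mul_one] at hab
        exact hab
      rw [this, map_zero]
    rw [← hiF, ← hiF] at h5
    simp only [t]
    rw [map_neg, map_div₀]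
    rw [neg_eq_iff_eq_neg, div_eq_iff hbF]
    linear_combination h5
  have hint : IsIntegral A t := by
    obtain ⟨P, hP, hPs⟩ := Algebra.IsIntegral.isIntegral (R := A) s
    refine ⟨P, hP, hinj ?_⟩
    rw [map_zero, Polynomial.hom_eval₂, ht]
    have h6 : iF.comp (algebraMap A L) = (algebraMap A' F).comp (algebraMap A A') := RingHom.ext hiF
    rw [h6, ← Polynomial.hom_eval₂, hPs, map_zero]
  obtain ⟨c, hc⟩ := IsIntegrallyClosed.algebraMap_eq_of_integral hint
  refine ⟨c, IsFractionRing.injective A' F ?_⟩
  rw [← ht, ← hc, hiF]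

end Alg

theorem bijective_of_isPushout {A A' K C : CommRingCat.{u}} {f : A ⟶ A'} {g : A ⟶ K} {f' : K ⟶ C} {g' : A' ⟶ C}
    (H : IsPushout f g g' f') [IsDomain A] [IsIntegrallyClosed A] [IsDomain A'] (hK : IsField K)
    (h1 : Function.Injective f.hom) (h2 : Function.Injective g.hom) (hint : f.hom.IsIntegral) [IsIso f'] :
    Function.Bijective f.hom := by
  refine ⟨h1, ?_⟩
  let := hK.toField
  algebraize [f.hom, g.hom, f'.hom, g'.hom, f'.hom.comp g.hom]
  have hst : IsScalarTower A A' C := by
    refine .of_algebraMap_eq' ?_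
    change f'.hom.comp g.hom = g'.hom.comp f.hom
    rw [← CommRingCat.hom_comp, ← CommRingCat.hom_comp, H.w]
  have hpo : Algebra.IsPushout A K A' C := by
    refine CommRingCat.isPushout_iff_isPushout.mp ?_
    exact H.flip
  have hb : Function.Bijective (algebraMap K C) := ConcreteCategory.bijective_of_isIso f'
  exact surjective_of_isPushout (A := A) (A' := A') (K := K) (C := C) h1 h2 hb

theorem isDominant_of_hits {X Y : Scheme.{u}} [IrreducibleSpace Y] (f : X ⟶ Y) (x : X)
    (hx : f x = genericPoint Y) : IsDominant f := by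
  refine ⟨?_⟩
  rw [DenseRange, dense_iff_closure_eq, ← Set.univ_subset_iff]
  have h1 : closure {genericPoint Y} = (Set.univ : Set Y) := genericPoint_spec Y
  rw [← h1]
  exact closure_mono (by rintro _ rfl; exact ⟨x, hx⟩)

theorem genericPoint_mem_opens {Y : Scheme.{u}} [IsIntegral Y] (V : Y.Opens) [Nonempty V] : genericPoint Y ∈ V :=
  ((genericPoint_spec Y).mem_open_set_iff V.isOpen).mpr (by simpa using ‹Nonempty V›)

theorem ι_genericPoint {Y : Scheme.{u}} [IsIntegral Y] (V : Y.Opens) [Nonempty V] :
    V.ι (genericPoint (V : Scheme.{u})) = genericPoint Y :=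
  genericPoint_eq_of_isOpenImmersion V.ι

/-- A morphism from the spectrum of a field to the generic point of an integral affine scheme is flat. -/
theorem flat_of_generic {Y : Scheme.{u}} [IsIntegral Y] (K : Type u) [Field K] (h : Spec (CommRingCat.of K) ⟶ Y)
    (hh : ∀ x, h x = genericPoint Y) : Flat h := by
  refine Flat.of_stalkMap _ fun x => ?_
  have key : ∀ y : Y, y = genericPoint Y → ∀ (R : CommRingCat.{u}) (φ : Y.presheaf.stalk y ⟶ R), φ.hom.Flat := by
    rintro y rfl R φ
    algebraize [φ.hom]
    have : Module.Free (Y.presheaf.stalk (genericPoint Y)) R :=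
      Module.Free.of_divisionRing (K := Y.functionField) _
    exact (inferInstance : Module.Flat (Y.presheaf.stalk (genericPoint Y)) R)
  exact key _ (hh x) _ _

theorem bijective_app {B M : Scheme.{u}} [IsIntegral B]
    (hB : ∀ x : B, IsIntegrallyClosed (B.presheaf.stalk x)) [IsIntegral M] (p : M ⟶ B) [QuasiSeparated p]
    [UniversallyClosed p]
    (hgen : p (genericPoint M) = genericPoint B) (K : Type u) [Field K] (h : Spec (CommRingCat.of K) ⟶ B)
    (hh : ∀ x, h x = genericPoint B) (hK : IsIso (pullback.snd p h).appTop) (V : B.Opens) (hV : IsAffineOpen V) :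
    Function.Bijective (p.app V).hom := by
  by_cases hne : Nonempty V
  swap
  · have hV0 : V = ⊥ := by
      ext x
      simp only [Opens.coe_bot, Set.mem_empty_iff_false, iff_false]
      exact fun hx => hne ⟨⟨x, hx⟩⟩
    subst hV0
    have s1 : Subsingleton Γ(B, ⊥) := inferInstance
    have s2 : Subsingleton Γ(M, p ⁻¹ᵁ ⊥) := by
      rw [show p ⁻¹ᵁ (⊥ : B.Opens) = ⊥ from rfl]
      infer_instance
    exact ⟨fun a b _ => Subsingleton.elim _ _, fun b => ⟨0, Subsingleton.elim _ _⟩⟩
  have hVa : IsAffine (V : Scheme.{u}) := hV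
  have hgV : genericPoint B ∈ V := genericPoint_mem_opens V
  have hgM : genericPoint M ∈ p ⁻¹ᵁ V := by
    change p (genericPoint M) ∈ V
    rw [hgen]; exact hgV
  have hneM : Nonempty (p ⁻¹ᵁ V) := ⟨⟨_, hgM⟩⟩
  have hic := Ega3B.NormalBirational.isIntegrallyClosed_section hB V hV
  have hicV : IsIntegrallyClosed Γ(V, ⊤) := by
    have e : Γ(V, ⊤) ≃+* Γ(B, V) := V.topIso.commRingCatIsoToRingEquiv
    exact IsIntegrallyClosed.of_equiv e.symm
  -- the map `Spec K ⟶ V`
  have hr : Set.range h ⊆ Set.range V.ι := by
    rintro _ ⟨x, rfl⟩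
    rw [Scheme.Opens.range_ι, hh x]
    exact hgV
  let h' : Spec (CommRingCat.of K) ⟶ V := IsOpenImmersion.lift V.ι h hr
  have hh' : h' ≫ V.ι = h := IsOpenImmersion.lift_fac _ _ _
  have hh'x : ∀ x, h' x = genericPoint (V : Scheme.{u}) := by
    intro x
    apply V.ι.isOpenEmbedding.injective
    rw [ι_genericPoint, ← Scheme.Hom.comp_apply, hh', hh]
  have hflat : Flat h' := flat_of_generic K h' hh'x
  have hdom' : IsDominant h' := isDominant_of_hits h' (IsLocalRing.closedPoint K) (hh'x _)
  have hdom : IsDominant (p ∣_ V) := by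
    have hdomp : IsDominant p := isDominant_of_hits p _ hgen
    exact IsZariskiLocalAtTarget.restrict hdomp V
  have hsd' : IsSchemeTheoreticallyDominant h' := .of_isDominant _
  have hsd : IsSchemeTheoreticallyDominant (p ∣_ V) := .of_isDominant _
  have hcov : QuasiCompact h' := inferInstance
  have hinj' : Function.Injective h'.appTop.hom := h'.app_injective ⊤
  have hinj : Function.Injective (p ∣_ V).appTop.hom := (p ∣_ V).app_injective ⊤
  -- the pullback square
  have hw : pullback.fst p h ≫ p = (pullback.snd p h ≫ h') ≫ V.ι := by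
    rw [Category.assoc, hh', pullback.condition]
  let g : pullback p h ⟶ (p ⁻¹ᵁ V : M.Opens) :=
    (isPullback_morphismRestrict p V).flip.lift (pullback.fst p h) (pullback.snd p h ≫ h') hw
  have H : IsPullback g (pullback.snd p h) (p ∣_ V) h' := by
    refine IsPullback.of_right (h₁₂ := (p ⁻¹ᵁ V).ι) (h₂₂ := V.ι) (v₁₃ := p) ?_ ?_
      (isPullback_morphismRestrict p V).flip
    · rw [IsPullback.lift_fst, hh']
      exact IsPullback.of_hasPullback p h
    · exact IsPullback.lift_snd _ _ _ _
  have hc : CompactSpace (p ⁻¹ᵁ V : M.Opens) :=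
    isCompact_iff_compactSpace.mp (p.isCompact_preimage hV.isCompact)
  have hqs : QuasiSeparatedSpace (p ⁻¹ᵁ V : M.Opens) := by
    exact (isQuasiSeparated_iff_quasiSeparatedSpace _ (p ⁻¹ᵁ V).isOpen).1 (p.isQuasiSeparated_preimage hV.isQuasiSeparated)
  have hpo := Desc.QAffDesc.isPushout_appTop_of_flat H
  have hKf : IsField Γ(Spec (CommRingCat.of K), ⊤) :=
    MulEquiv.isField (Field.toIsField K)
      (Scheme.ΓSpecIso (CommRingCat.of K)).commRingCatIsoToRingEquiv.toMulEquiv
  have hint : (p ∣_ V).appTop.hom.IsIntegral := isIntegral_appTop_of_universallyClosed (p ∣_ V)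
  have hb := bijective_of_isPushout hpo hKf hinj hinj' hint
  have hb1 : IsIso (p ∣_ V).appTop := (ConcreteCategory.isIso_iff_bijective _).2 hb
  rw [morphismRestrict_appTop] at hb1
  have h7 : IsIso (M.presheaf.map (eqToHom (image_morphismRestrict_preimage p V ⊤)).op) :=
    (M.presheaf.mapIso (eqToIso (image_morphismRestrict_preimage p V ⊤)).op).isIso_hom
  have hb2 : IsIso (p.app (V.ι ''ᵁ ⊤)) := @IsIso.of_isIso_comp_right _ _ _ _ _ _ _ h7 hb1
  have key : ∀ W : B.Opens, W = V → IsIso (p.app W) → IsIso (p.app V) := by
    rintro _ rfl h; exact h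
  have hb3 : IsIso (p.app V) := key _ (by simp) hb2
  exact ConcreteCategory.bijective_of_isIso (p.app V)

/-- **`p_* O_M = O_B` from the generic fibre and normality of `B`**. -/
theorem isIso_unitToPush {B M : Scheme.{u}} [IsIntegral B]
    (hB : ∀ x : B, IsIntegrallyClosed (B.presheaf.stalk x)) [IsIntegral M] (p : M ⟶ B) [QuasiSeparated p]
    [UniversallyClosed p]
    (hgen : p (genericPoint M) = genericPoint B) (K : Type u) [Field K] (h : Spec (CommRingCat.of K) ⟶ B)
    (hh : ∀ x, h x = genericPoint B) (hK : IsIso (pullback.snd p h).appTop) :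
    IsIso (ClSub.unitToPush p) := by
  have h1 : ∀ y : B, ∃ V : B.Opens, IsAffineOpen V ∧ y ∈ V ∧ IsIso (p.app V) := by
    intro y
    obtain ⟨_, ⟨V, hV, rfl⟩, hyV, -⟩ := B.isBasis_affineOpens.exists_subset_of_mem_open
      (a := y) (u := Set.univ) trivial isOpen_univ
    exact ⟨V, hV, hyV, (ConcreteCategory.isIso_iff_bijective _).2 (bijective_app hB p hgen K h hh hK V hV)⟩
  rw [Scheme.Modules.Hom.isIso_iff_isIso_app]
  intro U
  rw [ConcreteCategory.isIso_iff_bijective]
  have := FlatA.AppIso.isIso_app_of_forall_exists p h1 U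
  exact ConcreteCategory.bijective_of_isIso (p.app U)

/-- The statement of node PUSH (job 470). -/
theorem isIso_unitToPush_of_isProper {B M : Scheme.{u}} [IsIntegral B] [IsLocallyNoetherian B]
    (hB : ∀ x : B, IsIntegrallyClosed (B.presheaf.stalk x)) [IsIntegral M] (p : M ⟶ B) [IsProper p]
    (hgen : p (genericPoint M) = genericPoint B) (K : Type u) [Field K] (h : Spec (CommRingCat.of K) ⟶ B)
    (hh : ∀ x, h x = genericPoint B) (hK : IsIso (pullback.snd p h).appTop) :
    IsIso (ClSub.unitToPush p) :=
  isIso_unitToPush hB p hgen K h hh hK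

end Groth.Agent.Surf.K573.PushUnit
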